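import Mathlib
import Cfsg.Agent.Lib.Transfer.ThreeSizes.Common
import Cfsg.Agent.Lib.Transfer.ThreeSizes.Orbit
import Cfsg.Agent.S0205

/-!
At most one prime of an abelian `p'`-part of a centralizer divides the index of that centralizer.
-/

set_option autoImplicit false

open scoped Pointwise

universe u

namespace Cfsg.Agent.Transfer.ConjRankTwo

open Cfsg Cfsg.Agent Cfsg.Agent.Transfer.ClassDisconnected Cfsg.Agent.Transfer.TwoRegular
  Cfsg.Agent.Transfer.ThreeSizes Subgroup

variable {G : Type u} [Group G] [Finite G] {x : G} {p : ℕ}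

/-- A prime of the `p'`-part dividing the index divides the order of the automizer. -/
theorem dvd_card_aut (K : Part x p) {r : ℕ} (hr : Has x p r) (hd : r ∣ cix x) : r ∣ Nat.card (aut x) := by
  obtain ⟨hrpr, hrp, u, hu, huc, j, hj⟩ := hr
  haveI : Fact r.Prime := ⟨hrpr⟩
  have hu0 : IsPGroup r (Subgroup.zpowers u) := IsPGroup.of_card (n := j) (by rw [Nat.card_zpowers, hj])
  obtain ⟨h, hhC, ⟨i, hi⟩, hh⟩ := exists_normalizing (cen x) hd _ hu0 (Subgroup.zpowers_le.2 hu)
  have hnor : h ∈ nor x :=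
    K.mem_normalizer (preg_primary K.prime hrpr hrp hj) huc hu (hh u (Subgroup.mem_zpowers u))
  set w : aut x := ((⟨h, hnor⟩ : nor x) : aut x)
  have hw : w ≠ 1 := fun e => hhC (aut_mk_eq_one.1 e)
  have hwr : orderOf w ∣ r ^ i := by
    rw [← hi, show orderOf h = orderOf (⟨h, hnor⟩ : nor x) from (Subgroup.orderOf_mk h hnor).symm]
    exact orderOf_map_dvd (QuotientGroup.mk' _) _
  obtain ⟨c, -, hc⟩ := (Nat.dvd_prime_pow hrpr).1 hwr
  have hc0 : c ≠ 0 := fun e => hw (orderOf_eq_one_iff.1 (by rw [hc, e, pow_zero]))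
  exact ((dvd_pow_self r hc0).trans hc.symm.dvd).trans (orderOf_dvd_natCard w)

/-- The kernel of the action on the `r`-part is an `r`-group. -/
theorem isPGroup_ker (K : Part x p) {r : ℕ} (hr : Has x p r) : IsPGroup r (K.act r).ker := by
  obtain ⟨a, ha⟩ := K.exists_rBar hr
  refine IsPGroup.of_card (n := (Nat.card (K.act r).ker).primeFactorsList.length)
    (Nat.eq_prime_pow_of_unique_prime_dvd Nat.card_pos.ne' fun {q} hq hqd => ?_)
  by_contra hqr
  haveI : Fact q.Prime := ⟨hq⟩
  obtain ⟨w, hw⟩ := exists_prime_orderOf_dvd_card' (G := (K.act r).ker) q hqd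
  have hw' : orderOf (w : aut x) = q := by rw [Subgroup.orderOf_coe]; exact hw
  have ha1 : a = 1 := K.act_free hr.1 hq hqr
    (fun e => hq.ne_one (by rw [← hw', e, orderOf_one]))
    (orderOf_dvd_iff_pow_eq_one.1 hw'.dvd) (by rw [show K.act r (w : aut x) = 1 from w.2, MulAut.one_apply])
  exact hr.1.ne_one (by rw [← ha, ha1, orderOf_one])

/-- Two distinct primes of the `p'`-part do not both divide the index. -/
theorem false_of_two_primes (K : Part x p) {r q : ℕ} (hr : Has x p r) (hq : Has x p q) (hrq : r ≠ q)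
    (hrd : r ∣ cix x) (hqd : q ∣ cix x) : False := by
  wlog hr2 : r ≠ 2 generalizing r q
  · exact this hq hr hrq.symm hqd hrd (fun e => hrq (by rw [not_not.1 hr2, e]))
  haveI : Fact r.Prime := ⟨hr.1⟩
  haveI : Fact q.Prime := ⟨hq.1⟩
  haveI : Fact (Nat.Prime 2) := ⟨Nat.prime_two⟩
  obtain ⟨w, hw⟩ := exists_prime_orderOf_dvd_card' (G := aut x) r (dvd_card_aut K hr hrd)
  obtain ⟨v, hv⟩ := exists_prime_orderOf_dvd_card' (G := aut x) q (dvd_card_aut K hq hqd)
  have hne : ∀ (l : ℕ), l.Prime → ∀ y : aut x, orderOf y = l → y ≠ 1 ∧ y ^ l = 1 := fun l hl y hy =>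
    ⟨fun e => hl.ne_one (by rw [← hy, e, orderOf_one]), orderOf_dvd_iff_pow_eq_one.1 hy.dvd⟩
  by_cases heven : 2 ∣ Nat.card (aut x)
  · obtain ⟨a, ha⟩ := exists_prime_orderOf_dvd_card' (G := aut x) 2 heven
    -- two involutions differ by an element of the kernels on the odd parts
    have huniq : ∀ b : aut x, orderOf b = 2 → b = a := by
      intro b hb
      obtain ⟨ha1, ha2⟩ := hne 2 Nat.prime_two a ha
      obtain ⟨hb1, hb2⟩ := hne 2 Nat.prime_two b hb
      have hk : ∀ l : ℕ, Has x p l → l ≠ 2 → a * b ∈ (K.act l).ker := by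
        intro l hl hl2
        refine MonoidHom.mem_ker.2 (MulEquiv.ext fun c => ?_)
        rw [map_mul, MulAut.mul_apply, K.act_involution hl.1 (Ne.symm hl2) hb1 hb2,
          K.act_involution hl.1 (Ne.symm hl2) ha1 ha2, inv_inv, MulAut.one_apply]
      have hab : a * b = 1 := by
        have hmr := hk r hr hr2
        obtain ⟨i, hi⟩ := (IsPGroup.iff_orderOf.1 (isPGroup_ker K hr)) ⟨_, hmr⟩
        rw [Subgroup.orderOf_mk] at hi
        by_cases hq2 : q = 2
        · subst hq2
          by_cases hK : (K.act r).ker = ⊥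
          · rwa [hK, Subgroup.mem_bot] at hmr
          exfalso
          obtain ⟨c, hc⟩ := IsPGroup.iff_card.1 (isPGroup_ker K hr)
          refine K.not_normalizes hq ha1 ha2 _ hK ?_
            (fun y hy => (inferInstance : (K.act r).ker.Normal).conj_mem y hy a)
          rw [hc]
          exact Nat.Coprime.pow_left _ ((Nat.coprime_primes hr.1 Nat.prime_two).2 hr2)
        · have hmq := hk q hq hq2
          obtain ⟨j, hj⟩ := (IsPGroup.iff_orderOf.1 (isPGroup_ker K hq)) ⟨_, hmq⟩
          rw [Subgroup.orderOf_mk] at hj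
          rw [← orderOf_eq_one_iff]
          exact Nat.eq_one_of_dvd_coprimes
            (Nat.Coprime.pow i j ((Nat.coprime_primes hr.1 hq.1).2 hrq)) hi.dvd hj.dvd
      rw [eq_inv_of_mul_eq_one_right hab]
      exact inv_eq_of_mul_eq_one_left (by rw [← sq]; exact ha2)
    obtain ⟨hw1, hw2⟩ := hne r hr.1 w hw
    obtain ⟨ha1, -⟩ := hne 2 Nat.prime_two a ha
    refine K.not_normalizes hr hw1 hw2 (Subgroup.zpowers a) (by rwa [Ne, Subgroup.zpowers_eq_bot])
      (by rw [Nat.card_zpowers, ha]; exact (Nat.coprime_primes Nat.prime_two hr.1).2 (Ne.symm hr2)) ?_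
    intro y hy
    obtain ⟨i, rfl⟩ := Subgroup.mem_zpowers_iff.1 hy
    have h1 : w * a * w⁻¹ = a := huniq _ (by rw [← MulAut.conj_apply]; exact ((MulAut.conj w).orderOf_eq a).trans ha)
    rw [← conj_zpow, h1]
    exact Subgroup.mem_zpowers_iff.2 ⟨i, rfl⟩
  · haveI : Group.IsSolvable (aut x) :=
      S0205.result (Nat.odd_iff.2 (by omega))
    obtain ⟨l, hl, -, hcore⟩ := exists_pCore_ne_bot (W := aut x) fun e => hr.1.not_dvd_one (e ▸ dvd_card_aut K hr hrd)
    haveI : Fact l.Prime := ⟨hl⟩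
    haveI : (Cfsg.pCore l (aut x)).Normal := Grp.pCore_isNormal
    obtain ⟨c, hc⟩ := IsPGroup.iff_card.1 (Grp.pCore_isPGroup (p := l) (G := aut x))
    by_cases hlr : l = r
    · obtain ⟨hv1, hv2⟩ := hne q hq.1 v hv
      exact K.not_normalizes hq hv1 hv2 _ hcore (by
        rw [hc]; exact Nat.Coprime.pow_left _ ((Nat.coprime_primes hl hq.1).2 (hlr ▸ hrq)))
        fun y hy => (inferInstance : (Cfsg.pCore l (aut x)).Normal).conj_mem y hy v
    · obtain ⟨hw1, hw2⟩ := hne r hr.1 w hw
      exact K.not_normalizes hr hw1 hw2 _ hcore (by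
        rw [hc]; exact Nat.Coprime.pow_left _ ((Nat.coprime_primes hl hr.1).2 hlr))
        fun y hy => (inferInstance : (Cfsg.pCore l (aut x)).Normal).conj_mem y hy w

end Cfsg.Agent.Transfer.ConjRankTwo
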