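import Mathlib
import Cfsg.Agent.Lib.Transfer.Kazarin
import Cfsg.Agent.Lib.Transfer.TwoRegular.Basic
import Cfsg.Agent.Lib.Grp.TwoClassCore

/-!
Solvability from class sizes supported on two primes.
-/

set_option autoImplicit false

open scoped Pointwise

universe u

namespace Cfsg.Agent.Transfer.ConjRankTwo

open Cfsg Cfsg.Agent Cfsg.Agent.Transfer.ClassDisconnected Cfsg.Agent.Transfer.TwoRegular Subgroup

variable {G : Type u} [Group G] [Finite G]

/-- The preimage of a solvable subgroup under a map with solvable kernel is solvable. -/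
theorem isSolvable_comap {H : Type u} [Group H] (f : G →* H) (hk : Group.IsSolvable f.ker) (N : Subgroup H)
    (hN : Group.IsSolvable N) : Group.IsSolvable (N.comap f) := by
  haveI := hk
  haveI := hN
  let g : N.comap f →* N := (f.comp (N.comap f).subtype).codRestrict N fun a => a.2
  let i : f.ker →* N.comap f := f.ker.subtype.codRestrict _ fun a => by
    rw [Subgroup.mem_comap]
    exact (show f (a : G) = 1 from a.2) ▸ N.one_mem
  refine solvable_of_ker_le_range i g fun a ha => ⟨⟨a, ?_⟩, rfl⟩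
  exact congrArg Subtype.val (show g a = 1 from ha)

/-- An element with a class of prime power size lies in a solvable normal subgroup. -/
theorem exists_solvable_normal_of_primePow {p a : ℕ} [Fact p.Prime] {x : G} (ha : cix x = p ^ a) :
    ∃ N : Subgroup G, N.Normal ∧ Group.IsSolvable N ∧ x ∈ N := by
  haveI hPn : (Cfsg.pCore p G).Normal := Grp.pCore_isNormal
  set f := QuotientGroup.mk' (Cfsg.pCore p G) with hf
  have hcore : Cfsg.pCore p (G ⧸ Cfsg.pCore p G) = ⊥ :=
    Grp.TwoClassCore.pCore_quotient_eq_bot _ Grp.pCore_isPGroup rfl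
  have hle : (cen x).map f ≤ Subgroup.centralizer ({f x} : Set (G ⧸ Cfsg.pCore p G)) := by
    rintro _ ⟨c, hc, rfl⟩
    rw [Subgroup.mem_centralizer_singleton_iff, ← map_mul, mem_cen.1 hc, map_mul]
  have hd : (Subgroup.centralizer ({f x} : Set (G ⧸ Cfsg.pCore p G))).index ∣ p ^ a :=
    ha ▸ (Subgroup.index_dvd_of_le hle).trans (Subgroup.index_map_dvd _ (QuotientGroup.mk'_surjective _))
  obtain ⟨b, -, hb⟩ := (Nat.dvd_prime_pow Fact.out).1 hd
  haveI := Grp.fittingSubgroup_isNormal (G := G ⧸ Cfsg.pCore p G)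
  haveI := Grp.fittingSubgroup_isNilpotent (G := G ⧸ Cfsg.pCore p G)
  refine ⟨(Cfsg.fittingSubgroup (G ⧸ Cfsg.pCore p G)).comap f, inferInstance, ?_, Kazarin.mem_fitting hcore hb⟩
  refine isSolvable_comap f ?_ _ inferInstance
  rw [hf, QuotientGroup.ker_mk']
  haveI := (Grp.pCore_isPGroup (p := p) (G := G)).isNilpotent
  infer_instance

/-- A maximal solvable normal subgroup. -/
theorem exists_radical : ∃ (S : Subgroup G) (_ : S.Normal), Group.IsSolvable S ∧
    ∀ (x : G) (p a : ℕ), p.Prime → cix (x : G ⧸ S) = p ^ a → x ∈ S := by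
  obtain ⟨S, ⟨hSn, hSs⟩, hmax⟩ := (Set.toFinite {N : Subgroup G | N.Normal ∧ Group.IsSolvable N}).exists_maximal
    ⟨⊥, inferInstance, inferInstance⟩
  haveI := hSn
  refine ⟨S, hSn, hSs, fun x p a hp hx => ?_⟩
  haveI : Fact p.Prime := ⟨hp⟩
  obtain ⟨N, hNn, hNs, hxN⟩ := exists_solvable_normal_of_primePow hx
  haveI := hNn
  set f := QuotientGroup.mk' S with hf
  have hle : S ≤ N.comap f := fun c hc => by
    rw [Subgroup.mem_comap, show f c = 1 from (QuotientGroup.eq_one_iff c).2 hc]; exact one_mem _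
  have hs : Group.IsSolvable (N.comap f) := isSolvable_comap f (by rw [hf, QuotientGroup.ker_mk']; exact hSs) N hNs
  exact hmax ⟨inferInstance, hs⟩ hle (show x ∈ N.comap f from hxN)

/-- If the class sizes of the primary elements of order prime to `p` are `{p, q}`-numbers, the group is
solvable. -/
theorem isSolvable_of_support {p q : ℕ} (hp : p.Prime) (hq : q.Prime)
    (h : ∀ (x : G) (r k : ℕ), r.Prime → r ≠ p → orderOf x = r ^ k → x ∉ Subgroup.center G →
      ∀ l : ℕ, l.Prime → l ∣ cix x → l = p ∨ l = q) : Group.IsSolvable G := by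
  obtain ⟨S, hSn, hSs, hrad⟩ := exists_radical (G := G)
  haveI := hSn
  haveI : Fact p.Prime := ⟨hp⟩
  haveI : Fact q.Prime := ⟨hq⟩
  set f := QuotientGroup.mk' S with hf
  have hsurj : Function.Surjective f := QuotientGroup.mk'_surjective S
  have hdvd : ∀ x : G, cix (f x) ∣ cix x := fun x => by
    refine (Subgroup.index_dvd_of_le (H := (cen x).map f) ?_).trans (Subgroup.index_map_dvd _ hsurj)
    rintro _ ⟨c, hc, rfl⟩
    rw [Subgroup.mem_centralizer_singleton_iff, ← map_mul, mem_cen.1 hc, map_mul]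
  have key : ∀ (x : G) (r k : ℕ), r.Prime → r ≠ p → orderOf x = r ^ k →
      (q ≠ p → ¬ q ∣ cix (f x)) → x ∈ S := by
    intro x r k hr hrp hxo hqd
    refine hrad x p (cix (f x)).primeFactorsList.length hp
      (Nat.eq_prime_pow_of_unique_prime_dvd (cix_pos _).ne' fun {l} hl hld => ?_)
    by_cases hxc : x ∈ Subgroup.center G
    · have := hld.trans (hdvd x)
      rw [cix_eq_one.2 hxc, Nat.dvd_one] at this
      exact absurd this hl.ne_one
    rcases h x r k hr hrp hxo hxc l hl (hld.trans (hdvd x)) with e | e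
    · exact e
    · by_contra hlp
      exact hqd (e ▸ hlp) (e ▸ hld)
  have hqG : q ≠ p → ¬ q ∣ Nat.card (G ⧸ S) := by
    intro hqp hd
    obtain ⟨Q⟩ : Nonempty (Sylow q G) := inferInstance
    set Qb := Sylow.mapSurjective hsurj Q with hQb
    haveI : Nontrivial Qb := Finite.one_lt_card_iff_nontrivial.1 (by
      rw [Qb.card_eq_multiplicity]
      exact Nat.one_lt_pow ((hq.dvd_iff_one_le_factorization Nat.card_pos.ne').1 hd |> Nat.one_le_iff_ne_zero.1)
        hq.one_lt)
    haveI := Qb.isPGroup'.center_nontrivial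
    obtain ⟨z, hz⟩ := exists_ne (1 : Subgroup.center Qb)
    have hzQ : ((z : Qb) : G ⧸ S) ∈ (Q : Subgroup G).map f := by
      rw [← Sylow.coe_mapSurjective hsurj Q]; exact (z : Qb).2
    obtain ⟨x, hxQ, hxz⟩ := hzQ
    obtain ⟨k, hk⟩ := (IsPGroup.iff_orderOf.1 Q.isPGroup') ⟨x, hxQ⟩
    rw [Subgroup.orderOf_mk] at hk
    have hxS : x ∈ S := key x q k hq hqp hk fun _ hqd => by
      refine Qb.not_dvd_index (hqd.trans (Subgroup.index_dvd_of_le fun c hc => ?_))
      rw [Subgroup.mem_centralizer_singleton_iff, hxz]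
      exact congrArg Subtype.val (Subgroup.mem_center_iff.1 z.2 ⟨c, hc⟩)
    refine hz (Subtype.ext (Subtype.ext ?_))
    show ((z : Qb) : G ⧸ S) = 1
    rw [← hxz]
    exact (QuotientGroup.eq_one_iff x).2 hxS
  have hreg : ∀ (x : G) (r k : ℕ), r.Prime → r ≠ p → orderOf x = r ^ k → x ∈ S :=
    fun x r k hr hrp hxo => key x r k hr hrp hxo fun hqp hqd =>
      hqG hqp (hqd.trans (Subgroup.index_dvd_card _))
  have hP : IsPGroup p (G ⧸ S) := by
    refine IsPGroup.of_card (n := (Nat.card (G ⧸ S)).primeFactorsList.length)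
      (Nat.eq_prime_pow_of_unique_prime_dvd Nat.card_pos.ne' fun {r} hr hrd => ?_)
    by_contra hrp
    haveI : Fact r.Prime := ⟨hr⟩
    obtain ⟨R⟩ : Nonempty (Sylow r G) := inferInstance
    refine R.not_dvd_index (?_ : r ∣ (R : Subgroup G).index)
    refine (show r ∣ S.index by rwa [Subgroup.index_eq_card]).trans (Subgroup.index_dvd_of_le fun a ha => ?_)
    obtain ⟨k, hk⟩ := (IsPGroup.iff_orderOf.1 R.isPGroup') ⟨a, ha⟩
    rw [Subgroup.orderOf_mk] at hk
    exact hreg a r k hr hrp hk
  haveI := hSs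
  haveI := hP.isNilpotent
  exact (Group.isSolvable_iff_subgroup_quotient S).mpr ⟨hSs, inferInstance⟩

end Cfsg.Agent.Transfer.ConjRankTwo
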