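import Mathlib
import Cfsg.Agent.Lib.Transfer.ThreeSizes.Basic
import Cfsg.Agent.Lib.Transfer.ConjRankTwo.Radical
import Cfsg.Agent.Lib.Transfer.ConjRankTwo.Automizer

/-!
Solvability when the centralizers of the `p'`-primary elements have abelian, self-centralized `p'`-parts
and equal class sizes up to `p`-parts.
-/

set_option autoImplicit false

open scoped Pointwise

universe u

namespace Cfsg.Agent.Transfer.ConjRankTwo

open Cfsg Cfsg.Agent Cfsg.Agent.Transfer.ClassDisconnected Cfsg.Agent.Transfer.TwoRegular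
  Cfsg.Agent.Transfer.ThreeSizes Subgroup

variable {G : Type u} [Group G] [Finite G]

/-- A noncentral element of `r`-power order. -/
def NC (r : ℕ) (x : G) : Prop := r.Prime ∧ x ∉ Subgroup.center G ∧ ∃ k : ℕ, orderOf x = r ^ k

theorem exists_nc_of_dvd {x : G} {l : ℕ} (hl : l.Prime) (hd : l ∣ cix x) : ∃ v : G, NC l v := by
  haveI : Fact l.Prime := ⟨hl⟩
  obtain ⟨S⟩ : Nonempty (Sylow l G) := inferInstance
  by_contra hno
  push Not at hno
  refine S.not_dvd_index (hd.trans (Subgroup.index_dvd_of_le fun a ha => ?_))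
  obtain ⟨k, hk⟩ := (IsPGroup.iff_orderOf.1 S.isPGroup') ⟨a, ha⟩
  rw [Subgroup.orderOf_mk] at hk
  exact Subgroup.center_le_centralizer _ (by_contra fun hc => hno a ⟨hl, hc, k, hk⟩)

theorem NC.exists_mem {l : ℕ} {v : G} (hv : NC l v) {w : G}
    (he : (cix w).factorization l ≤ (cix v).factorization l) : ∃ u ∈ cen w, NC l u := by
  obtain ⟨hl, hvc, k, hk⟩ := hv
  haveI : Fact l.Prime := ⟨hl⟩
  obtain ⟨u, hu, huc, j, hj⟩ := Hyp3.exists_mem_of_fac (w := w) hvc (self_mem_cen v) hvc hk he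
  exact ⟨u, hu, hl, huc, j, hj⟩

/-- The common core of the argument. -/
theorem isSolvable_of_part {p : ℕ} (hp : p.Prime)
    (hPart : ∀ (u : G) (r : ℕ), NC r u → r ≠ p → Part u p)
    (hfac : ∀ (u v : G) (r l : ℕ), NC r u → r ≠ p → NC l v → l ≠ p → ∀ i : ℕ, i.Prime → i ≠ p →
      (cix u).factorization i = (cix v).factorization i) : Group.IsSolvable G := by
  by_cases hno : ∀ (x : G) (r : ℕ), NC r x → r ≠ p → ∀ l : ℕ, l.Prime → l ∣ cix x → l = p
  · exact isSolvable_of_support hp hp fun x r k hr hrp hxo hxc l hl hld =>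
      Or.inl (hno x r ⟨hr, hxc, k, hxo⟩ hrp l hl hld)
  push Not at hno
  obtain ⟨u₀, r₀, hu₀, hr₀, q, hq, hqd, hqp⟩ := hno
  refine isSolvable_of_support hp hq fun x r k hr hrp hxo hxc l hl hld => or_iff_not_imp_left.2 fun hlp => ?_
  by_contra hlq
  have hld₀ : l ∣ cix u₀ := by
    rw [hl.dvd_iff_one_le_factorization (cix_pos _).ne',
      hfac u₀ x r₀ r hu₀ hr₀ ⟨hr, hxc, k, hxo⟩ hrp l hl hlp,
      ← hl.dvd_iff_one_le_factorization (cix_pos _).ne']
    exact hld
  have has : ∀ i : ℕ, i.Prime → i ≠ p → i ∣ cix u₀ → Has u₀ p i := by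
    intro i hi hip hid
    obtain ⟨v, hv⟩ := exists_nc_of_dvd hi hid
    obtain ⟨u, hu, huN⟩ := hv.exists_mem (w := u₀) (hfac u₀ v r₀ i hu₀ hr₀ hv hip i hi hip).le
    exact ⟨hi, hip, u, hu, huN.2⟩
  exact false_of_two_primes (hPart u₀ r₀ hu₀ hr₀) (has l hl hlp hld₀) (has q hq hqp hqd) hlq hld₀ hqd

end Cfsg.Agent.Transfer.ConjRankTwo
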