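import Mathlib
import Cfsg.Agent.Lib.Transfer.ConjRankTwo.Core

/-!
Groups with two noncentral class sizes: generalities.
-/

set_option autoImplicit false

open scoped Pointwise

universe u

namespace Cfsg.Agent.Transfer.ConjRankTwo

open Cfsg Cfsg.Agent Cfsg.Agent.Transfer.ClassDisconnected Cfsg.Agent.Transfer.TwoRegular
  Cfsg.Agent.Transfer.ThreeSizes Subgroup

variable {G : Type u} [Group G] [Finite G]

/-- The two noncentral class sizes. -/
structure Hyp2 (G : Type u) [Group G] (s b : ℕ) : Prop where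
  one_lt : 1 < s
  lt : s < b
  size : ∀ x : G, cix x = 1 ∨ cix x = s ∨ cix x = b

theorem eq_of_le_of_cix {x y : G} (hle : cen x ≤ cen y) (he : cix x = cix y) : cen x = cen y := by
  refine le_antisymm hle (Subgroup.relIndex_eq_one.1 ?_)
  have h1 : (cen x).relIndex (cen y) * cix y = cix x := Subgroup.relIndex_mul_index hle
  rw [he] at h1
  exact Nat.eq_of_mul_eq_mul_right (cix_pos y) (by rw [h1, one_mul])

theorem nc_of_cen_le {x y : G} (hy : y ∉ Subgroup.center G) (hle : cen x ≤ cen y) : x ∉ Subgroup.center G :=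
  fun hx => hy (mem_center_of_top (top_le_iff.1 (cen_eq_top hx ▸ hle)))

theorem exists_nc_power {g : G} (hg : g ∉ Subgroup.center G) : ∃ j r : ℕ, NC r (g ^ j) := by
  obtain ⟨j, r, k, hr, ho, hc⟩ := exists_primary_noncentral hg
  exact ⟨j, r, hr, hc, k, ho⟩

theorem NC.coprime {r l : ℕ} {u : G} (hu : NC r u) (hl : l.Prime) (hne : r ≠ l) {w : G}
    (hw : ∃ k : ℕ, orderOf w = l ^ k) : (orderOf u).Coprime (orderOf w) := by
  obtain ⟨hr, -, i, hi⟩ := hu
  obtain ⟨k, hk⟩ := hw
  rw [hi, hk]
  exact Nat.Coprime.pow _ _ ((Nat.coprime_primes hr hl).2 hne)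

theorem NC.preg {r p : ℕ} {u : G} (hu : NC r u) (hp : p.Prime) (hne : r ≠ p) : (orderOf u).Coprime p := by
  obtain ⟨hr, -, i, hi⟩ := hu
  exact preg_primary hp hr hne hi

/-- Elements central among the primary elements of a subgroup are central in it. -/
theorem commute_of_primary {C : Subgroup G} {g : G}
    (h : ∀ j r k : ℕ, r.Prime → orderOf (g ^ j) = r ^ k → ∀ c ∈ C, c * g ^ j = g ^ j * c) :
    ∀ c ∈ C, c * g = g * c := by
  have h1 : g ∈ Subgroup.centralizer (C : Set G) := mem_of_primary _ fun j r k hr ho =>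
    Subgroup.mem_centralizer_iff.2 fun c hc => h j r k hr ho c hc
  exact fun c hc => Subgroup.mem_centralizer_iff.1 h1 c hc

namespace Hyp2

variable {s b : ℕ} (H : Hyp2 G s b)

include H in
theorem size_nc {x : G} (hx : x ∉ Subgroup.center G) : cix x = s ∨ cix x = b :=
  (H.size x).resolve_left fun h => hx (cix_eq_one.1 h)

include H in
theorem nc_of_size {x : G} (hx : cix x = s ∨ cix x = b) : x ∉ Subgroup.center G := fun h => by
  have := H.one_lt
  have := H.lt
  rw [cix_eq_one.2 h] at hx
  omega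

end Hyp2

end Cfsg.Agent.Transfer.ConjRankTwo
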