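import Mathlib
import Cfsg.Agent.Lib.Transfer.ConjRankTwo.Basic

/-!
Two noncentral class sizes, no proper inclusion between noncentral centralizers.
-/

set_option autoImplicit false

open scoped Pointwise

universe u

namespace Cfsg.Agent.Transfer.ConjRankTwo

open Cfsg Cfsg.Agent Cfsg.Agent.Transfer.ClassDisconnected Cfsg.Agent.Transfer.TwoRegular
  Cfsg.Agent.Transfer.ThreeSizes Subgroup

variable {G : Type u} [Group G] [Finite G]

/-- No proper inclusions between noncentral centralizers. -/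
def Flat (G : Type u) [Group G] : Prop :=
  ∀ x y : G, x ∉ Subgroup.center G → y ∉ Subgroup.center G → cen x ≤ cen y → cen x = cen y

/-- `l` occurs among the primary elements of class size `t`. -/
def Occ (G : Type u) [Group G] (t l : ℕ) : Prop := ∃ v : G, NC l v ∧ cix v = t

/-- Two primes occur among the primary elements of class size `t`. -/
def Mixed (G : Type u) [Group G] (t : ℕ) : Prop := ∃ l l' : ℕ, l ≠ l' ∧ Occ G t l ∧ Occ G t l'

namespace Flat

variable (hF : Flat G)

include hF in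
theorem le_of_coprime {u g : G} (hu : u ∉ Subgroup.center G) (hg : g ∈ cen u)
    (hco : (orderOf u).Coprime (orderOf g)) : cen u ≤ cen g := by
  have hc : Commute u g := (show Commute g u from mem_cen.1 hg).symm
  have h0 := cen_mul_eq hc hco
  have hle : cen (u * g) ≤ cen u := h0 ▸ inf_le_left
  rw [← hF _ _ (nc_of_cen_le hu hle) hu hle, h0]
  exact inf_le_right

include hF in
theorem exists_power {x : G} (hx : x ∉ Subgroup.center G) : ∃ (j r : ℕ), NC r (x ^ j) ∧ cen (x ^ j) = cen x := by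
  obtain ⟨j, r, h⟩ := exists_nc_power hx
  exact ⟨j, r, h, (hF _ _ hx h.2.1 (centralizer_le_pow x j)).symm⟩

include hF in
/-- Centralizers of mixed class size are abelian. -/
theorem comm_of_mixed {t : ℕ} (hm : Mixed G t) {x : G} (hx : x ∉ Subgroup.center G) (hxt : cix x = t) :
    ∀ a ∈ cen x, ∀ c ∈ cen x, c * a = a * c := by
  obtain ⟨j, r, hu, hC⟩ := hF.exists_power hx
  rw [← hC]
  set u := x ^ j
  have hut : cix u = t := by rw [show cix u = (cen u).index from rfl, hC]; exact hxt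
  obtain ⟨l, hlr, v, hv, hvt⟩ : ∃ l, l ≠ r ∧ Occ G t l := by
    obtain ⟨l, l', hne, hl, hl'⟩ := hm
    by_cases e : l = r
    · exact ⟨l', fun e' => hne (e.trans e'.symm), hl'⟩
    · exact ⟨l, e, hl⟩
  obtain ⟨w, hw, hwN⟩ := hv.exists_mem (w := u) (by rw [hut, hvt])
  have hCw : cen u = cen w :=
    hF _ _ hu.2.1 hwN.2.1 (hF.le_of_coprime hu.2.1 hw (hu.coprime hwN.1 hlr.symm hwN.2.2))
  intro a ha
  refine commute_of_primary fun i d k hd ho c hc => ?_
  have hai : a ^ i ∈ cen u := Subgroup.pow_mem _ ha i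
  by_cases hdr : d = r
  · exact mem_cen.1 (hF.le_of_coprime hwN.2.1 (hCw ▸ hai)
      (hwN.coprime hd (by rw [hdr]; exact hlr) ⟨k, ho⟩) (hCw ▸ hc))
  · exact mem_cen.1 (hF.le_of_coprime hu.2.1 hai (hu.coprime hd (Ne.symm hdr) ⟨k, ho⟩) hc)

include hF in
theorem part_of_mixed {t : ℕ} (hm : Mixed G t) {x : G} (hx : x ∉ Subgroup.center G) (hxt : cix x = t)
    {p : ℕ} (hp : p.Prime) : Part x p where
  prime := hp
  comm := fun u hu _ g hg => hF.comm_of_mixed hm hx hxt u hu g hg
  eq := fun u hu _ huc => (hF _ _ hx huc fun g hg => mem_cen.2 (hF.comm_of_mixed hm hx hxt u hu g hg)).symm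

include hF in
theorem has {t : ℕ} {x : G} (hxt : cix x = t) {l p : ℕ} (ho : Occ G t l) (hlp : l ≠ p) : Has x p l := by
  obtain ⟨v, hv, hvt⟩ := ho
  obtain ⟨u, hu, huN⟩ := hv.exists_mem (w := x) (by rw [hxt, hvt])
  exact ⟨hv.1, hlp, u, hu, huN.2⟩

omit [Finite G] in
theorem Occ.prime {t l : ℕ} (h : Occ G t l) : l.Prime := h.elim fun _ hv => hv.1.1

theorem Occ.le_card {t l : ℕ} (h : Occ G t l) : l ≤ Nat.card G := by
  obtain ⟨v, ⟨hl, hvc, k, hk⟩, -⟩ := h
  have hk0 : k ≠ 0 := fun h0 => hvc (by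
    rw [h0, pow_zero, orderOf_eq_one_iff] at hk; rw [hk]; exact one_mem _)
  exact Nat.le_of_dvd Nat.card_pos ((dvd_pow_self l hk0).trans (hk ▸ orderOf_dvd_natCard v))

include hF in
/-- In a mixed class size one of the primes does not divide it. -/
theorem exists_not_dvd {t : ℕ} (hm : Mixed G t) : ∃ r, Occ G t r ∧ ¬ r ∣ t := by
  obtain ⟨l, l', hne, hl, hl'⟩ := hm
  by_contra hno
  push Not at hno
  obtain ⟨P, hPle, hP⟩ := Nat.exists_infinite_primes (Nat.card G + 1)
  obtain ⟨v, hv, hvt⟩ := hl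
  have h1 : l ≠ P := fun e => by have := Occ.le_card ⟨v, hv, hvt⟩; omega
  have h2 : l' ≠ P := fun e => by have := Occ.le_card hl'; omega
  exact false_of_two_primes (hF.part_of_mixed ⟨l, l', hne, ⟨v, hv, hvt⟩, hl'⟩ hv.2.1 hvt hP)
    (hF.has hvt ⟨v, hv, hvt⟩ h1) (hF.has hvt hl' h2) hne
    (hvt ▸ hno l ⟨v, hv, hvt⟩) (hvt ▸ hno l' hl')

include hF in
/-- All centralizers of a mixed class size are conjugate. -/
theorem exists_conj {t r : ℕ} (hm : Mixed G t) (ho : Occ G t r) (hrt : ¬ r ∣ t) (ht : 1 < t) :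
    ∃ (R : Sylow r G) (w : G), w ∈ (R : Subgroup G) ∧ NC r w ∧ cix w = t ∧ (R : Subgroup G) ≤ cen w ∧
      ∀ x : G, cix x = t → ∃ g : G, cen x = cen (g * w * g⁻¹) := by
  obtain ⟨v, hv, hvt⟩ := ho
  haveI : Fact r.Prime := ⟨hv.1⟩
  obtain ⟨R, hR⟩ := exists_sylow_le_centralizer (r := r) (u := v) (by rwa [hvt])
  obtain ⟨hr, hvc, k, hk⟩ := hv
  obtain ⟨R', hR'⟩ := (IsPGroup.of_card (n := k) (by rw [Nat.card_zpowers, hk]) :
    IsPGroup r (Subgroup.zpowers v)).exists_le_sylow
  obtain ⟨g₁, hg₁⟩ := MulAction.exists_smul_eq G R R'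
  obtain ⟨w, hwR, hgw⟩ := exists_of_mem_smul (g := g₁) (P := R) (hg₁ ▸ hR' (Subgroup.mem_zpowers v))
  have hwc : w ∉ Subgroup.center G := fun h => hvc (hgw ▸ (conj_center_iff g₁ w).2 h)
  have hwo : orderOf w = r ^ k := by rw [← hk, ← hgw, orderOf_conj]
  have hCw : cen v = cen w := hF _ _ hvc hwc fun c hc =>
    mem_cen.2 (hF.comm_of_mixed hm hvc hvt w (hR hwR) c hc)
  refine ⟨R, w, hwR, ⟨hr, hwc, k, hwo⟩, ?_, hCw ▸ hR, fun x hx => ?_⟩
  · show (cen w).index = t
    rw [← hCw]; exact hvt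
  have hxc : x ∉ Subgroup.center G := fun h => by rw [cix_eq_one.2 h] at hx; omega
  obtain ⟨R₁, hR₁⟩ := exists_sylow_le_centralizer (r := r) (u := x) (by rwa [hx])
  obtain ⟨g, hg⟩ := MulAction.exists_smul_eq G R R₁
  have hmem : g * w * g⁻¹ ∈ cen x := hR₁ (by
    rw [← hg]; exact Subgroup.smul_mem_pointwise_smul w (MulAut.conj g) _ hwR)
  exact ⟨g, hF _ _ hxc (fun h => hwc ((conj_center_iff g w).1 h)) fun c hc =>
    mem_cen.2 (hF.comm_of_mixed hm hxc hx _ hmem c hc)⟩

include hF in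
/-- The elements of a mixed class size with a nontrivial automizer fill at most half of the group. -/
theorem card_bound {t : ℕ} (ht : 1 < t) {w : G} (hwt : cix w = t) (hne : (cen w).relIndex (nor w) ≠ 1)
    (hconj : ∀ x : G, cix x = t → ∃ g : G, cen x = cen (g * w * g⁻¹)) :
    2 * {x : G | cix x = t}.ncard + t * Nat.card (Subgroup.center G) ≤ Nat.card G := by
  set N := nor w
  set D : Set G := (cen w : Set G) \ (Subgroup.center G : Set G) with hD
  let f : (G ⧸ N) × D → G := fun a => a.1.out * (a.2 : G) * a.1.out⁻¹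
  have hsub : {x : G | cix x = t} ⊆ Set.range f := by
    intro x hx
    obtain ⟨g, hg⟩ := hconj x hx
    obtain ⟨n, hn⟩ := QuotientGroup.mk_out_eq_mul N g
    have hxg : g⁻¹ * x * g ∈ cen w := by
      refine (cen_conj_iff g w _).1 ?_
      rw [show g * (g⁻¹ * x * g) * g⁻¹ = x by group, ← hg]
      exact self_mem_cen x
    have hd : (n : G)⁻¹ * (g⁻¹ * x * g) * n ∈ cen w :=
      (Subgroup.mem_normalizer_iff''.1 n.2 _).1 hxg
    have hxc : x ∉ Subgroup.center G := fun h => by
      rw [Set.mem_setOf_eq, cix_eq_one.2 h] at hx; omega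
    refine ⟨((g : G ⧸ N), ⟨(n : G)⁻¹ * (g⁻¹ * x * g) * n, hd, fun hc => hxc ?_⟩), ?_⟩
    · have e : (n : G)⁻¹ * (g⁻¹ * x * g) * n = ((g * n)⁻¹) * x * ((g * n)⁻¹)⁻¹ := by group
      rw [e] at hc
      exact (conj_center_iff _ x).1 hc
    · show (g : G ⧸ N).out * _ * ((g : G ⧸ N).out)⁻¹ = x
      rw [hn]
      group
  have h1 : {x : G | cix x = t}.ncard ≤ N.index * D.ncard := by
    refine (Set.ncard_le_ncard hsub (Set.toFinite _)).trans ?_
    rw [← Set.image_univ]
    refine (Set.ncard_image_le Set.finite_univ).trans ?_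
    rw [Set.ncard_univ, Nat.card_prod, Subgroup.index_eq_card, Nat.card_coe_set_eq]
  have h2 : 2 * N.index ≤ t := by
    have h3 : (cen w).relIndex N * N.index = t := by
      rw [show (cen w).relIndex N * N.index = (cen w).index from index_nor_mul w]; exact hwt
    have h4 : (cen w).relIndex N ≠ 0 := Subgroup.index_ne_zero_of_finite (H := (cen w).subgroupOf N)
    rw [← h3]
    exact Nat.mul_le_mul_right _ (by omega)
  have h5 : D.ncard + Nat.card (Subgroup.center G) = Nat.card (cen w) := by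
    rw [hD]
    exact Set.ncard_sdiff_add_ncard_of_subset (Subgroup.center_le_centralizer _) (Set.toFinite _)
  have h6 : Nat.card (cen w) * t = Nat.card G := by rw [← hwt]; exact Subgroup.card_mul_index _
  calc 2 * {x : G | cix x = t}.ncard + t * Nat.card (Subgroup.center G)
      ≤ 2 * (N.index * D.ncard) + t * Nat.card (Subgroup.center G) := by omega
    _ ≤ t * D.ncard + t * Nat.card (Subgroup.center G) := by
        rw [← mul_assoc]; exact Nat.add_le_add_right (Nat.mul_le_mul_right _ h2) _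
    _ = Nat.card G := by rw [← mul_add, h5, mul_comm, h6]

include hF in
/-- A mixed class size with a trivial automizer gives a normal complement to its primes. -/
theorem isSolvable_of_selfNormalizing {t t' : ℕ} (ht : 1 < t) (ht' : 1 < t')
    (hsize : ∀ x : G, x ∉ Subgroup.center G → cix x = t ∨ cix x = t') (hm : Mixed G t) (hm' : Mixed G t')
    {w : G} (hwc : w ∉ Subgroup.center G) (hwt : cix w = t) (he : (cen w).relIndex (nor w) = 1)
    (hconj : ∀ x : G, cix x = t → ∃ g : G, cen x = cen (g * w * g⁻¹)) : Group.IsSolvable G := by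
  obtain ⟨P, hPle, hP⟩ := Nat.exists_infinite_primes (Nat.card G + 1)
  have hndvd : ∀ l, Occ G t l → ¬ l ∣ t := by
    intro l hl hd
    have hlP : l ≠ P := fun e => by have := Occ.le_card hl; omega
    have h1 := dvd_card_aut (hF.part_of_mixed hm hwc hwt hP) (hF.has hwt hl hlP) (hwt ▸ hd)
    rw [show Nat.card (aut w) = 1 from he] at h1
    exact (Occ.prime hl).not_dvd_one h1
  have hcomp : ∀ l, Occ G t l → ¬ l ∣ Nat.card (commutator G) := by
    intro l hl
    obtain ⟨R, w', hw'R, hw'N, hw't, hRC, -⟩ := hF.exists_conj hm hl (hndvd l hl) ht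
    haveI : Fact l.Prime := ⟨hw'N.1⟩
    obtain ⟨g, hg⟩ := hconj w' hw't
    have hab := hF.comm_of_mixed hm hw'N.2.1 hw't
    have hnc : Subgroup.normalizer ((R : Subgroup G) : Set G) ≤ Subgroup.centralizer ((R : Subgroup G) : Set G) := by
      intro h hh
      have hgw : g * w * g⁻¹ ∈ cen w' := hg ▸ self_mem_cen _
      have hK := hF.part_of_mixed hm hw'N.2.1 hw't hP
      have hlP : l ≠ P := fun e => by have := Occ.le_card hl; omega
      have hn : h ∈ nor w' := hK.mem_normalizer (hw'N.preg hP hlP) hw'N.2.1 (self_mem_cen w')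
        (hRC ((Subgroup.mem_normalizer_iff.1 hh w').1 hw'R))
      have hn' : g⁻¹ * h * g ∈ nor w := by
        rw [Subgroup.mem_normalizer_iff]
        intro a
        have e : g⁻¹ * h * g * a * (g⁻¹ * h * g)⁻¹ = g⁻¹ * (h * (g * a * g⁻¹) * h⁻¹) * g := by group
        rw [e, ← cen_conj_iff g w a, ← cen_conj_iff g w (g⁻¹ * (h * (g * a * g⁻¹) * h⁻¹) * g),
          show g * (g⁻¹ * (h * (g * a * g⁻¹) * h⁻¹) * g) * g⁻¹ = h * (g * a * g⁻¹) * h⁻¹ by group, ← hg]
        exact Subgroup.mem_normalizer_iff.1 hn _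
      have hhC : h ∈ cen w' := by
        rw [hg, show h = g * (g⁻¹ * h * g) * g⁻¹ by group, cen_conj_iff]
        exact Subgroup.relIndex_eq_one.1 he hn'
      exact Subgroup.mem_centralizer_iff.2 fun a ha => (hab a (hRC ha) h hhC).symm
    have hle : commutator G ≤ (MonoidHom.transferSylow R hnc).ker := by
      letI : CommGroup (R : Subgroup G) := { (inferInstance : Group (R : Subgroup G)) with
        mul_comm := fun a c => Subtype.ext (hab c (hRC c.2) a (hRC a.2)) }
      exact Abelianization.commutator_subset_ker (MonoidHom.transferSylow R hnc)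
    exact fun hd => MonoidHom.not_dvd_card_ker_transferSylow R hnc (hd.trans (Subgroup.card_dvd_of_le hle))
  have hKs : Group.IsSolvable (commutator G) := by
    obtain ⟨q, hq, hqsupp⟩ : ∃ q, q.Prime ∧ ∀ l, Occ G t' l → l ∣ t' → l = q := by
      by_cases hex : ∃ l, Occ G t' l ∧ l ∣ t'
      · obtain ⟨l, hl, hld⟩ := hex
        refine ⟨l, Occ.prime hl, fun l' hl' hl'd => ?_⟩
        by_contra hne
        obtain ⟨v, hv, hvt⟩ := hl
        have h1 : l ≠ P := fun e => by have := Occ.le_card ⟨v, hv, hvt⟩; omega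
        have h2 : l' ≠ P := fun e => by have := Occ.le_card hl'; omega
        exact false_of_two_primes (hF.part_of_mixed hm' hv.2.1 hvt hP) (hF.has hvt ⟨v, hv, hvt⟩ h1)
          (hF.has hvt hl' h2) (Ne.symm hne) (hvt ▸ hld) (hvt ▸ hl'd)
      · push Not at hex
        exact ⟨2, Nat.prime_two, fun l hl hld => absurd hld (hex l hl)⟩
    refine isSolvable_of_support hq hq fun x r k hr _ hxo hxc l hl hld => Or.inl ?_
    have hxG : (x : G) ∉ Subgroup.center G := fun h => hxc (Subgroup.mem_center_iff.2 fun c =>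
      Subtype.ext (Subgroup.mem_center_iff.1 h c))
    have hxo' : orderOf (x : G) = r ^ k := by rw [Subgroup.orderOf_coe]; exact hxo
    have hlK : l ∣ Nat.card (commutator G) := hld.trans (Subgroup.index_dvd_card _)
    have hk0 : k ≠ 0 := fun h0 => hxc (by
      rw [h0, pow_zero, orderOf_eq_one_iff] at hxo; rw [hxo]; exact one_mem _)
    have hxt : cix (x : G) = t' := (hsize _ hxG).resolve_left fun e => hcomp r ⟨x, ⟨hr, hxG, k, hxo'⟩, e⟩
      ((dvd_pow_self r hk0).trans (hxo.symm.dvd.trans (orderOf_dvd_natCard x)))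
    have hdG : l ∣ cix (x : G) := by
      refine hld.trans ?_
      have h0 : Subgroup.centralizer ({x} : Set (commutator G)) = (cen (x : G)).subgroupOf (commutator G) := by
        ext c
        rw [Subgroup.mem_subgroupOf, Subgroup.mem_centralizer_singleton_iff, mem_cen, Subtype.ext_iff]
        rfl
      show (Subgroup.centralizer ({x} : Set (commutator G))).index ∣ _
      rw [h0]
      exact Kazarin.relIndex_dvd_index _ _
    refine hqsupp l ?_ (hxt ▸ hdG)
    obtain ⟨v, hv⟩ := exists_nc_of_dvd hl hdG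
    exact ⟨v, hv, (hsize v hv.2.1).resolve_left fun e => hcomp l ⟨v, hv, e⟩ hlK⟩
  exact (Group.isSolvable_iff_subgroup_quotient (commutator G)).mpr
    ⟨hKs, (inferInstance : Group.IsSolvable (Abelianization G))⟩

end Flat

variable {s b : ℕ}

/-- The case without proper inclusions. -/
theorem Hyp2.isSolvable_of_flat (H : Hyp2 G s b) (hF : Flat G) : Group.IsSolvable G := by
  have hsb : s ≠ b := H.lt.ne
  have hcase : ∀ t t' : ℕ, (∀ x : G, x ∉ Subgroup.center G → cix x = t ∨ cix x = t') → ¬ Mixed G t' →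
      Group.IsSolvable G := by
    intro t t' hsz hnm
    obtain ⟨p, hp, hpt⟩ : ∃ p, p.Prime ∧ ∀ l, Occ G t' l → l = p := by
      by_cases hex : ∃ l, Occ G t' l
      · obtain ⟨l, hl⟩ := hex
        exact ⟨l, Flat.Occ.prime hl, fun l' hl' => by_contra fun hne => hnm ⟨l', l, hne, hl', hl⟩⟩
      · push Not at hex
        exact ⟨2, Nat.prime_two, fun l hl => absurd hl (hex l)⟩
    have hsz' : ∀ (u : G) (r : ℕ), NC r u → r ≠ p → cix u = t := fun u r hu hr =>
      (hsz u hu.2.1).resolve_right fun e => hr (hpt r ⟨u, hu, e⟩)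
    by_cases hm : Mixed G t
    · exact isSolvable_of_part hp (fun u r hu hr => hF.part_of_mixed hm hu.2.1 (hsz' u r hu hr) hp)
        fun u v r l hu hr hv hl i _ _ => by rw [hsz' u r hu hr, hsz' v l hv hl]
    · by_cases hex : ∃ l, Occ G t l
      · obtain ⟨q, hq⟩ := hex
        refine isSolvable_of_support hp (Flat.Occ.prime hq) fun x r k hr hrp hxo hxc l hl hld => ?_
        obtain ⟨v, hv⟩ := exists_nc_of_dvd hl hld
        rcases hsz v hv.2.1 with e | e
        · exact Or.inr (by_contra fun hne => hm ⟨l, q, hne, ⟨v, hv, e⟩, hq⟩)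
        · exact Or.inl (hpt l ⟨v, hv, e⟩)
      · push Not at hex
        exact isSolvable_of_support hp hp fun x r k hr hrp hxo hxc =>
          absurd ⟨x, ⟨hr, hxc, k, hxo⟩, hsz' x r ⟨hr, hxc, k, hxo⟩ hrp⟩ (hex r)
  by_cases hmb : Mixed G b
  swap
  · exact hcase s b (fun x hx => H.size_nc hx) hmb
  by_cases hms : Mixed G s
  swap
  · exact hcase b s (fun x hx => (H.size_nc hx).symm) hms
  have hs1 := H.one_lt
  have hb1 : 1 < b := hs1.trans H.lt
  obtain ⟨r, hr, hrs⟩ := hF.exists_not_dvd hms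
  obtain ⟨R, w, -, hwN, hwt, -, hconj⟩ := hF.exists_conj hms hr hrs hs1
  obtain ⟨r', hr', hrb⟩ := hF.exists_not_dvd hmb
  obtain ⟨R', w', -, hwN', hwt', -, hconj'⟩ := hF.exists_conj hmb hr' hrb hb1
  by_cases he : (cen w).relIndex (nor w) = 1
  · exact hF.isSolvable_of_selfNormalizing hs1 hb1 (fun x hx => H.size_nc hx) hms hmb hwN.2.1 hwt he hconj
  by_cases he' : (cen w').relIndex (nor w') = 1
  · exact hF.isSolvable_of_selfNormalizing hb1 hs1 (fun x hx => (H.size_nc hx).symm) hmb hms hwN'.2.1 hwt' he' hconj'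
  exfalso
  have h1 := hF.card_bound hs1 hwt he hconj
  have h2 := hF.card_bound hb1 hwt' he' hconj'
  have h3 : Nat.card G ≤ Nat.card (Subgroup.center G) + {x : G | cix x = s}.ncard + {x : G | cix x = b}.ncard := by
    rw [← Set.ncard_univ]
    refine (Set.ncard_le_ncard (t := ((Subgroup.center G : Set G) ∪ {x : G | cix x = s}) ∪ {x : G | cix x = b})
      (fun x _ => ?_) (Set.toFinite _)).trans ((Set.ncard_union_le _ _).trans
        (Nat.add_le_add_right ((Set.ncard_union_le _ _).trans (le_of_eq rfl)) _))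
    rcases H.size x with e | e | e
    · exact Or.inl (Or.inl (cix_eq_one.1 e))
    · exact Or.inl (Or.inr e)
    · exact Or.inr e
  have hz : 0 < Nat.card (Subgroup.center G) := Nat.card_pos
  nlinarith [H.lt, hs1]

end Cfsg.Agent.Transfer.ConjRankTwo
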