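import Mathlib
import Cfsg.Agent.Lib.Transfer.ConjRankTwo.Basic
import Cfsg.Agent.Lib.Transfer.TwoRegular.Main

/-!
Two noncentral class sizes with a proper inclusion between noncentral centralizers.
-/

set_option autoImplicit false

open scoped Pointwise

universe u

namespace Cfsg.Agent.Transfer.ConjRankTwo

open Cfsg Cfsg.Agent Cfsg.Agent.Transfer.ClassDisconnected Cfsg.Agent.Transfer.TwoRegular
  Cfsg.Agent.Transfer.ThreeSizes Subgroup

variable {G : Type u} [Group G] [Finite G]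

/-- An element of `d`-power order in `C` that is not central in `C`. -/
def NCin (C : Subgroup G) (d : ℕ) (v : G) : Prop :=
  v ∈ C ∧ d.Prime ∧ (∃ k : ℕ, orderOf v = d ^ k) ∧ ∃ g ∈ C, g * v ≠ v * g

omit [Finite G] in
theorem NCin.not_mem {C : Subgroup G} {d : ℕ} {v : G} (h : NCin C d v) :
    (⟨v, h.1⟩ : C) ∉ Subgroup.center C := fun hc => by
  obtain ⟨g, hg, hne⟩ := h.2.2.2
  exact hne (congrArg Subtype.val (Subgroup.mem_center_iff.1 hc ⟨g, hg⟩))

theorem exists_ncin {C : Subgroup G} {g : G} (hg : g ∈ C) (h : ∃ c ∈ C, c * g ≠ g * c) :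
    ∃ (d : ℕ) (v : G), NCin C d v ∧ v ∈ Subgroup.zpowers g := by
  by_contra hno
  push Not at hno
  obtain ⟨c, hc, hne⟩ := h
  refine hne (commute_of_primary (fun j r k hr ho e he => ?_) c hc)
  by_contra hne'
  exact hno r (g ^ j) ⟨C.pow_mem hg j, hr, ⟨k, ho⟩, e, he, hne'⟩ (Subgroup.pow_mem _ (Subgroup.mem_zpowers g) j)

/-- The class sizes `s ∣ b = s n` with `n > 1`, at least three primes. -/
structure Nested (G : Type u) [Group G] (s b n : ℕ) : Prop where
  hyp : Hyp2 G s b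
  eq : b = s * n
  n_lt : 1 < n
  three : ∀ a c : ℕ, a.Prime → c.Prime → ∃ (l : ℕ) (v : G), NC l v ∧ l ≠ a ∧ l ≠ c

namespace Nested

variable {s b n : ℕ} (H : Nested G s b n)

include H in
theorem dvd_cix {x : G} (hx : x ∉ Subgroup.center G) : s ∣ cix x := by
  rcases H.hyp.size_nc hx with e | e <;> rw [e]
  rw [H.eq]
  exact dvd_mul_right s n

include H in
theorem s_top {e w : G} (he : cix e = s) (hw : w ∉ Subgroup.center G) (hle : cen e ≤ cen w) :
    cix w = s ∧ cen w = cen e := by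
  have h1 : cix w ∣ cix e := Subgroup.index_dvd_of_le hle
  have h2 : cix w = s := Nat.dvd_antisymm (he ▸ h1) (H.dvd_cix hw)
  exact ⟨h2, (eq_of_le_of_cix hle (he.trans h2.symm)).symm⟩

include H in
theorem exists_mem_s {e : G} (he : cix e = s) {l : ℕ} {v : G} (hv : NC l v) : ∃ u ∈ cen e, NC l u :=
  hv.exists_mem (by
    rw [he]
    exact (Nat.factorization_le_iff_dvd (by have := H.hyp.one_lt; omega) (cix_pos v).ne').2
      (H.dvd_cix hv.2.1) l)

include H in
theorem rel_size {x u : G} (hx : cix x = s) (hu : u ∈ cen x) (hco : (orderOf x).Coprime (orderOf u)) :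
    (cen u).relIndex (cen x) = 1 ∨ (cen u).relIndex (cen x) = n := by
  have h0 := cen_mul_eq (show Commute x u from (show Commute u x from mem_cen.1 hu).symm) hco
  have h1 : (cen u).relIndex (cen x) * s = cix (x * u) := by
    rw [← hx]
    show _ * (cen x).index = (cen (x * u)).index
    rw [h0, inf_comm, ← Subgroup.inf_relIndex_right, Subgroup.relIndex_mul_index inf_le_right]
  have hs : 0 < s := by have := H.hyp.one_lt; omega
  rcases H.hyp.size (x * u) with e | e | e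
  · rw [e] at h1; have h5 := Nat.eq_one_of_mul_eq_one_left h1; have := H.hyp.one_lt; omega
  · rw [e] at h1; exact Or.inl (Nat.eq_of_mul_eq_mul_right hs (by rw [h1, one_mul]))
  · rw [e, H.eq] at h1; exact Or.inr (Nat.eq_of_mul_eq_mul_right hs (by rw [h1, mul_comm]))

include H in
theorem hypC {e : G} {l : ℕ} (he : NC l e) (hes : cix e = s) : TwoRegular.Hyp ↥(cen e) l n := by
  obtain ⟨hl, -, k, hk⟩ := he
  refine ⟨hl, H.n_lt, fun u hu => ?_⟩
  have h0 : Subgroup.centralizer ({u} : Set (cen e)) = (cen (u : G)).subgroupOf (cen e) := by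
    ext c
    rw [Subgroup.mem_subgroupOf, Subgroup.mem_centralizer_singleton_iff, mem_cen, Subtype.ext_iff]
    rfl
  show (Subgroup.centralizer ({u} : Set (cen e))).index = 1 ∨ _ = n
  rw [show cix u = (Subgroup.centralizer ({u} : Set (cen e))).index from rfl, h0]
  refine H.rel_size hes u.2 ?_
  rw [hk, Subgroup.orderOf_coe]
  exact (hu.pow_right k).symm

omit [Finite G] in
theorem sig {e v : G} {l d : ℕ} (hd : NCin (cen e) d v) (hdl : d ≠ l) : TwoRegular.Sig ↥(cen e) l d := by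
  obtain ⟨k, hk⟩ := hd.2.2.1
  exact ⟨hd.2.1, hdl, ⟨v, hd.1⟩, hd.not_mem, k, by rw [Subgroup.orderOf_mk, hk]⟩

include H in
/-- Two primes other than `l` noncentral in `C(e)` force `n` to be a power of `l`. -/
theorem eq_of_two {e v v' : G} {l d d' : ℕ} (he : NC l e) (hes : cix e = s) (hd : NCin (cen e) d v)
    (hd' : NCin (cen e) d' v') (hne : d ≠ d') (hdl : d ≠ l) (hdl' : d' ≠ l) {m : ℕ} (hm : m.Prime)
    (hmn : m ∣ n) : m = l := by
  refine (H.hypC he hes).eq_p_of_dvd (fun q => ?_) hm hmn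
  by_cases hq : d = q
  · exact ⟨d', hq ▸ hne.symm, sig hd' hdl'⟩
  · exact ⟨d, hq, sig hd hdl⟩

include H in
/-- The primes of `n` are noncentral in `C(e)`. -/
theorem exists_witness {e v : G} {l d : ℕ} (he : NC l e) (hes : cix e = s) (hd : NCin (cen e) d v) (hdl : d ≠ l)
    {m : ℕ} (hm : m.Prime) (hmn : m ∣ n) : ∃ w : G, NCin (cen e) m w := by
  obtain ⟨k, hk⟩ := hd.2.2.1
  have hco : (orderOf (⟨v, hd.1⟩ : cen e)).Coprime l := by
    rw [Subgroup.orderOf_mk]; exact preg_primary he.1 hd.2.1 hdl hk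
  have hn : cix (⟨v, hd.1⟩ : cen e) = n := (H.hypC he hes).index_eq hco hd.not_mem
  obtain ⟨w, -, hwc, j, hj⟩ := exists_nc_of_dvd hm (hn.symm ▸ hmn)
  refine ⟨w, w.2, hm, ⟨j, by rw [Subgroup.orderOf_coe]; exact hj⟩, ?_⟩
  by_contra hall
  push Not at hall
  exact hwc (Subgroup.mem_center_iff.2 fun c => Subtype.ext (hall c c.2))

include H in
theorem exists_prime_n {x y : G} (hy : cix y = s) (hle : cen x ≤ cen y) (hlt : cen x ≠ cen y) :
    ∃ p : ℕ, p.Prime ∧ ∀ m : ℕ, m.Prime → m ∣ n → m = p := by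
  classical
  obtain ⟨j, ℓ, hy'⟩ := exists_nc_power (H.hyp.nc_of_size (Or.inl hy))
  obtain ⟨hy's, hCy⟩ := H.s_top hy hy'.2.1 (centralizer_le_pow y j)
  set e := y ^ j
  have hxe : x ∈ cen e := hCy ▸ hle (self_mem_cen x)
  have hxnc : ∃ g ∈ cen e, g * x ≠ x * g := by
    by_contra hall
    push Not at hall
    exact hlt (le_antisymm hle fun c hc => mem_cen.2 (hall c (hCy ▸ hc)))
  obtain ⟨c₀, v₀, hv₀, -⟩ := exists_ncin hxe hxnc
  by_cases hA : ∃ d d' : ℕ, d ≠ d' ∧ d ≠ ℓ ∧ d' ≠ ℓ ∧ (∃ v, NCin (cen e) d v) ∧ ∃ v, NCin (cen e) d' v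
  · obtain ⟨d, d', hne, hdl, hdl', ⟨v, hv⟩, v', hv'⟩ := hA
    exact ⟨ℓ, hy'.1, fun m hm hmn => H.eq_of_two hy' hy's hv hv' hne hdl hdl' hm hmn⟩
  obtain ⟨a, hap, ha⟩ : ∃ a : ℕ, a.Prime ∧ ∀ d, (∃ v, NCin (cen e) d v) → d = ℓ ∨ d = a := by
    by_cases hex : ∃ d, d ≠ ℓ ∧ ∃ v, NCin (cen e) d v
    · obtain ⟨a, hal, v, hv⟩ := hex
      exact ⟨a, hv.2.1, fun d hd => or_iff_not_imp_left.2 fun hdl =>
        by_contra fun hne => hA ⟨d, a, hne, hdl, hal, hd, v, hv⟩⟩
    · exact ⟨ℓ, hy'.1, fun d hd => Or.inl (by_contra fun hne => hex ⟨d, hne, hd⟩)⟩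
  obtain ⟨l, u, hu, hlℓ, hla⟩ := H.three ℓ a hy'.1 hap
  obtain ⟨e', he'C, he'⟩ := H.exists_mem_s hy's hu
  have hcen : ∀ g ∈ cen e, g * e' = e' * g := fun g hg => by_contra fun hne => by
    rcases ha l ⟨e', he'C, hu.1, he'.2.2, g, hg, hne⟩ with h | h
    · exact hlℓ h
    · exact hla h
  obtain ⟨he's, hCe'⟩ := H.s_top hy's he'.2.1 fun g hg => mem_cen.2 (hcen g hg)
  have hne_l : ∀ d v, NCin (cen e) d v → d ≠ l := fun d v hd hdl => by
    rcases ha d ⟨v, hd⟩ with h | h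
    · exact hlℓ (hdl.symm.trans h)
    · exact hla (hdl.symm.trans h)
  by_cases htwo : ∃ d d' : ℕ, d ≠ d' ∧ (∃ v, NCin (cen e) d v) ∧ ∃ v, NCin (cen e) d' v
  · obtain ⟨d, d', hne, ⟨v, hv⟩, v', hv'⟩ := htwo
    exact ⟨l, hu.1, fun m hm hmn => H.eq_of_two he' he's (hCe'.symm ▸ hv) (hCe'.symm ▸ hv') hne
      (hne_l d v hv) (hne_l d' v' hv') hm hmn⟩
  refine ⟨c₀, hv₀.2.1, fun m hm hmn => ?_⟩
  obtain ⟨w, hw⟩ := H.exists_witness he' he's (hCe'.symm ▸ hv₀) (hne_l c₀ v₀ hv₀) hm hmn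
  by_contra hne
  exact htwo ⟨m, c₀, hne, ⟨w, hCe' ▸ hw⟩, v₀, hv₀⟩

variable {p : ℕ} (hp : p.Prime) (hpn : p ∣ n) (hn : ∀ m : ℕ, m.Prime → m ∣ n → m = p)

include H hp hpn in
theorem central_of_ne {e v : G} {l d : ℕ} (he : NC l e) (hes : cix e = s) (hlp : l ≠ p)
    (hd : NCin (cen e) d v) (hdp : d ≠ p) (hdl : d ≠ l) : False := by
  obtain ⟨w, hw⟩ := H.exists_witness he hes hd hdl hp hpn
  exact hlp (H.eq_of_two he hes hd hw hdp hdl (Ne.symm hlp) hp hpn).symm

include H hp hpn in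
/-- In a centralizer of class size `s` of a `p'`-element the `p'`-elements are central. -/
theorem central_preg {e u : G} {l : ℕ} (he : NC l e) (hes : cix e = s) (hlp : l ≠ p) (hu : u ∈ cen e)
    (hup : (orderOf u).Coprime p) : ∀ g ∈ cen e, g * u = u * g := by
  refine commute_of_primary fun j d k hd ho g hg => ?_
  by_contra hne
  have hv : NCin (cen e) d (u ^ j) := ⟨Subgroup.pow_mem _ hu j, hd, ⟨k, ho⟩, g, hg, hne⟩
  have hdp : d ≠ p := by
    refine prime_ne_of_coprime hp hup ho fun hz => ?_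
    exact hne (Subgroup.mem_center_iff.1 hz g)
  by_cases hdl : d = l
  · obtain ⟨m, w, hw, hmp, hml⟩ := H.three p l hp he.1
    obtain ⟨e', he'C, he'⟩ := H.exists_mem_s hes hw
    have hcen : ∀ c ∈ cen e, c * e' = e' * c := fun c hc => by_contra fun hne' =>
      H.central_of_ne hp hpn he hes hlp ⟨he'C, hw.1, he'.2.2, c, hc, hne'⟩ hmp hml
    obtain ⟨he's, hCe'⟩ := H.s_top hes he'.2.1 fun c hc => mem_cen.2 (hcen c hc)
    exact H.central_of_ne hp hpn he' he's hmp (hCe'.symm ▸ hv) hdp (hdl ▸ hml.symm)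
  · exact H.central_of_ne hp hpn he hes hlp hv hdp hdl

include H hn in
theorem fac_eq {x : G} (hx : x ∉ Subgroup.center G) {i : ℕ} (hi : i.Prime) (hip : i ≠ p) :
    (cix x).factorization i = s.factorization i := by
  rcases H.hyp.size_nc hx with e | e <;> rw [e]
  rw [H.eq, Nat.factorization_mul (by have := H.hyp.one_lt; omega) (by have := H.n_lt; omega), Finsupp.add_apply,
    Nat.factorization_eq_zero_of_not_dvd (fun h => hip (hn i hi h)), add_zero]

include H hp hpn hn in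
theorem part {u : G} {r : ℕ} (hu : NC r u) (hrp : r ≠ p) : Part u p := by
  have hup := hu.preg hp hrp
  rcases H.hyp.size_nc hu.2.1 with hs | hb
  · exact ⟨hp, fun w hw hwp g hg => H.central_preg hp hpn hu hs hrp hw hwp g hg, fun w hw hwp hwc =>
      (H.s_top hs hwc fun g hg => mem_cen.2 (H.central_preg hp hpn hu hs hrp hw hwp g hg)).2⟩
  -- an element of a third prime with the same centralizer
  obtain ⟨l, v, hv, hlr, hlp⟩ := H.three r p hu.1 hp
  obtain ⟨e, he, heN⟩ := hv.exists_mem (w := u)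
    (by rw [H.fac_eq hn hu.2.1 hv.1 hlp, H.fac_eq hn hv.2.1 hv.1 hlp])
  have hbs : ¬ b ∣ s := fun h => by
    have := Nat.le_of_dvd (by have := H.hyp.one_lt; omega) h
    have := H.hyp.lt
    omega
  have hno : ∀ (e' : G) (l' : ℕ), NC l' e' → l' ≠ p → u ∈ cen e' → cix e' ≠ s := by
    intro e' l' he' hl' hue hs'
    refine hbs ?_
    rw [← hb, ← hs']
    exact Subgroup.index_dvd_of_le fun g hg => mem_cen.2 (H.central_preg hp hpn he' hs' hl' hue hup g hg)
  have hminimal : ∀ a g : G, cix a = b → g ∈ cen a → (orderOf a).Coprime (orderOf g) → cen a ≤ cen g := by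
    intro a g ha hg hco
    have hc : Commute a g := (show Commute g a from mem_cen.1 hg).symm
    have h0 := cen_mul_eq hc hco
    have hle : cen (a * g) ≤ cen a := h0 ▸ inf_le_left
    have hag : cix (a * g) = cix a := by
      have h1 : cix a ∣ cix (a * g) := Subgroup.index_dvd_of_le hle
      rcases H.hyp.size (a * g) with e1 | e1 | e1
      · rw [e1, ha, Nat.dvd_one] at h1; have := H.hyp.one_lt; have := H.hyp.lt; omega
      · rw [e1, ha] at h1; exact absurd h1 hbs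
      · rw [e1, ha]
    rw [← eq_of_le_of_cix hle hag, h0]
    exact inf_le_right
  have heb : cix e = b := (H.hyp.size_nc heN.2.1).resolve_left (hno e l heN hlp (cen_mem_comm he))
  have hCe : cen u = cen e := eq_of_le_of_cix (hminimal u e hb he (hu.coprime heN.1 hlr.symm heN.2.2)) (hb.trans heb.symm)
  have hcomm : ∀ w ∈ cen u, (orderOf w).Coprime p → ∀ g ∈ cen u, g * w = w * g := by
    intro w hw _
    refine commute_of_primary fun j d k hd ho g hg => ?_
    have hwj : w ^ j ∈ cen u := Subgroup.pow_mem _ hw j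
    by_cases hdr : d = r
    · exact mem_cen.1 (hminimal e _ heb (hCe ▸ hwj) (heN.coprime hd (by rw [hdr]; exact hlr) ⟨k, ho⟩) (hCe ▸ hg))
    · exact mem_cen.1 (hminimal u _ hb hwj (hu.coprime hd (Ne.symm hdr) ⟨k, ho⟩) hg)
  refine ⟨hp, hcomm, fun w hw hwp hwc => ?_⟩
  have hle : cen u ≤ cen w := fun g hg => mem_cen.2 (hcomm w hw hwp g hg)
  rcases H.hyp.size_nc hwc with hs' | hb'
  · exfalso
    obtain ⟨j, l', hN⟩ := exists_nc_power hwc
    obtain ⟨k, hk⟩ := hN.2.2
    exact hno (w ^ j) l' hN (prime_ne_of_coprime hp hwp hk hN.2.1)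
      (centralizer_le_pow w j (hle (self_mem_cen u))) (H.s_top hs' hN.2.1 (centralizer_le_pow w j)).1
  · exact (eq_of_le_of_cix hle (hb.trans hb'.symm)).symm

include H in
theorem isSolvable {x y : G} (hy : cix y = s) (hle : cen x ≤ cen y) (hlt : cen x ≠ cen y) :
    Group.IsSolvable G := by
  obtain ⟨p, hp, hn⟩ := H.exists_prime_n hy hle hlt
  obtain ⟨q, hq, hqn⟩ := Nat.exists_prime_and_dvd (n := n) (by have := H.n_lt; omega)
  obtain rfl := hn q hq hqn
  exact isSolvable_of_part hp (fun u r hu hr => H.part hp hqn hn hu hr)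
    fun u v r l hu _ hv _ i hi hip => by rw [H.fac_eq hn hu.2.1 hi hip, H.fac_eq hn hv.2.1 hi hip]

end Nested

end Cfsg.Agent.Transfer.ConjRankTwo
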