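import Mathlib
import Cfsg.Agent.Lib.Transfer.ConjRankTwo.CaseF
import Cfsg.Agent.Lib.Transfer.ConjRankTwo.CaseNested

/-!
Groups with two noncentral class sizes are solvable.
-/

set_option autoImplicit false

open scoped Pointwise

universe u

namespace Cfsg.Agent.Transfer.ConjRankTwo

open Cfsg Cfsg.Agent Cfsg.Agent.Transfer.ClassDisconnected Cfsg.Agent.Transfer.TwoRegular
  Cfsg.Agent.Transfer.ThreeSizes Subgroup

variable {G : Type u} [Group G] [Finite G]

theorem Hyp2.isSolvable {s b : ℕ} (H : Hyp2 G s b) : Group.IsSolvable G := by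
  by_cases hF : Flat G
  · exact H.isSolvable_of_flat hF
  by_cases h3 : ∀ a c : ℕ, a.Prime → c.Prime → ∃ (l : ℕ) (v : G), NC l v ∧ l ≠ a ∧ l ≠ c
  swap
  · push Not at h3
    obtain ⟨a, c, ha, hc, h⟩ := h3
    exact isSolvable_of_support ha hc fun x r k _ _ _ _ l hl hld => or_iff_not_imp_left.2 fun hla => by
      obtain ⟨v, hv⟩ := exists_nc_of_dvd hl hld
      exact h l v hv hla
  simp only [Flat, not_forall] at hF
  obtain ⟨x, y, hx, hy, hle, hne⟩ := hF
  have hd : cix y ∣ cix x := Subgroup.index_dvd_of_le hle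
  have hneq : cix x ≠ cix y := fun e => hne (eq_of_le_of_cix hle e)
  have h1 := H.one_lt
  have h2 := H.lt
  rcases H.size_nc hy with hys | hyb
  · rcases H.size_nc hx with hxs | hxb
    · exact absurd (hxs.trans hys.symm) hneq
    · obtain ⟨n, hn⟩ : s ∣ b := by rwa [hys, hxb] at hd
      have N : Nested G s b n := ⟨H, hn, by
        by_contra hle'
        interval_cases n <;> omega, h3⟩
      exact N.isSolvable hys hle hne
  · rcases H.size_nc hx with hxs | hxb
    · rw [hxs, hyb] at hd
      have := Nat.le_of_dvd (by omega) hd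
      omega
    · exact absurd (hxb.trans hyb.symm) hneq

end Cfsg.Agent.Transfer.ConjRankTwo
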